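import Cfsg.Agent.H773.SimpleTwo
import Cfsg.Agent.H752.Ext
import Cfsg.Agent.S5113
import Cfsg.Agent.S5084
import Cfsg.Agent.H757.Sf.Exists
import Cfsg.Agent.H757.Sf.Types

/-! # S5176: the fields `foc` and `nz` of `Sit` for a simple system (helper745) -/
set_option autoImplicit false
set_option linter.unusedSectionVars false

open Cfsg Cfsg.FusionSystem Cfsg.Agent.H752 Cfsg.Agent.H784.SF Cfsg.Agent.H784.Q

universe u

namespace Cfsg.Agent.H745.Q

variable {Ω : Type u} [Group Ω] {S : Subgroup Ω} [Finite S] {F : FusionSystem S}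

theorem focal_mp {P : Subgroup Ω} {f : Ω → Ω} (hf : Mp F P f) {x : Ω} (hx : x ∈ P) : x⁻¹ * f x ∈ F.focalSubgroup := by
  obtain ⟨φ, hφ, h1⟩ := hf
  exact Subgroup.subset_closure ⟨P, φ, ⟨x, hx⟩, hφ, by rw [h1 x hx]⟩

theorem focal_le : F.focalSubgroup ≤ S := by
  unfold FusionSystem.focalSubgroup
  rw [Subgroup.closure_le]
  rintro _ ⟨P, φ, x, hφ, rfl⟩
  exact S.mul_mem (S.inv_mem ((F.le_of_mem hφ).1 x.2)) ((F.le_of_mem hφ).2 x)

theorem hyper_le_focal : F.hyperfocalSubgroup 2 ≤ F.focalSubgroup := by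
  unfold FusionSystem.hyperfocalSubgroup
  rw [Subgroup.closure_le]
  rintro _ ⟨P, α, x, hP, -, rfl⟩
  have h1 := focal_mp ((mp_iff_autGroup hP (α : MulAut P)).1 α.2) x.2
  rwa [ex_coe] at h1

/-- a simple system on a nonabelian 2-group is equal to its focal subgroup. -/
theorem focal_eq_of_isSimple (hS : IsPGroup 2 S) (hs : F.IsSimple 2) {x y : Ω} (hx : x ∈ S) (hy : y ∈ S)
    (hxy : x * y ≠ y * x) : F.focalSubgroup = S := by
  obtain ⟨E, ⟨hEs, hEi⟩, -⟩ := Cfsg.Agent.S5113.result 2 hS F hs.1 _ (focal_le (F := F)) hyper_le_focal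
  have hEn : E.IsNormalIn F 2 := H752.isNormalIn_of_pPowerIndex hS hs.1 focal_le
    (fun s hs t ht => by
      have h1 := focal_mp (mp_conj F le_rfl hs) (focal_le ht)
      have h2 := mul_mem ht h1
      simpa using h2) hyper_le_focal hEs hEi
  rcases hs.2.2 _ E hEn with hc | hc
  · exfalso
    apply hxy
    have h1 := focal_mp (mp_conj F le_rfl hx) hy
    rw [hc, Subgroup.mem_bot] at h1
    have h2 : x * y * x⁻¹ = y := by
      rw [inv_mul_eq_one] at h1
      exact h1.symm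
    rw [mul_inv_eq_iff_eq_mul] at h2
    exact h2
  · exact hc.1

/-- in a simple system an involution of the center of `S` is conjugate to another element. -/
theorem nz_of_isSimple (hS : IsPGroup 2 S) (hs : F.IsSimple 2) (h4 : 2 < Nat.card S) {z : Ω} (hz : z ∈ S)
    (hzz : z * z = 1) (hz1 : z ≠ 1) : ∃ t, t ≠ z ∧ CE F z t := by
  by_contra hno
  push Not at hno
  have hcen : F.IsCentral (Subgroup.zpowers z) := by
    rw [Cfsg.Agent.S5084.result 2 hS F hs.1]
    refine ⟨by rwa [Subgroup.zpowers_le], ?_⟩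
    rintro x hx y hxy
    have hx2 : x = 1 ∨ x = z := by
      obtain ⟨n, rfl⟩ := hx
      have h2 : z ^ (2 : ℤ) = 1 := by rw [zpow_two, hzz]
      change z ^ n = 1 ∨ z ^ n = z
      rcases Int.even_or_odd' n with ⟨l, rfl | rfl⟩
      · left; rw [zpow_mul, h2, one_zpow]
      · right; rw [zpow_add, zpow_mul, h2, one_zpow, one_mul, zpow_one]
    obtain ⟨φ, hφ, h3⟩ := hxy
    rcases hx2 with rfl | rfl
    · rw [← h3]
      exact map_one φ
    · by_contra hne
      refine hno y hne ⟨ex φ, mp_ex hφ, ?_⟩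
      rw [ex_apply _ (Subgroup.mem_zpowers x)]
      exact h3
  have h1 := H773.eq_bot_of_isNormal_of_isSimple hS hs h4 (H773.isNormal_of_isCentral hcen)
  rw [Subgroup.zpowers_eq_bot] at h1
  exact hz1 h1

/-- `Sit` from the hypotheses of S5176. -/
theorem exists_sit {R : Subgroup Ω} (hS : IsPGroup 2 S) (hs : F.IsSimple 2) (hRS : R ≤ S) (n : ℕ) (hk : 2 ≤ n)
    (eR : ↥R ≃* QuaternionGroup (2 ^ n)) (hW : F.WeaklyClosed R)
    (hC : ∀ y ∈ centralizerIn S R, orderOf y = 2 →
      ∀ C : FusionSystem (centralizerIn S (Subgroup.zpowers y)),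
        F.IsCentralizerSystem (Subgroup.zpowers y) C → C.StronglyClosed R) :
    ∃ a b z r m, Sit F R a b z r m := by
  obtain ⟨a, b, z, r, q⟩ := Cfsg.Agent.H757.Sf.exists_qr hk eR
  have hab : a * b ≠ b * a := by
    intro h1
    rw [q.ba] at h1
    have h2 : a = a⁻¹ := mul_right_cancel h1
    apply q.a_four
    have h3 : a * a = 1 := by nth_rewrite 2 [h2]; exact mul_inv_cancel a
    have h4 : a ^ 4 = (a * a) * (a * a) := by rw [← pow_two, ← pow_two, ← pow_mul]
    rw [h4, h3, one_mul]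
  have hcard : 2 < Nat.card S := by
    have h1 : Nat.card (Subgroup.zpowers a) ≤ Nat.card S :=
      Nat.card_mono (Set.toFinite _) ((Subgroup.zpowers_le (H := S)).2 (hRS q.aR))
    rw [Nat.card_zpowers, q.oa] at h1
    have h2 : 2 ^ 3 ≤ 2 ^ (n + 1) := Nat.pow_le_pow_right (by norm_num) (by omega)
    omega
  exact Cfsg.Agent.H757.Sf.exists_sit_of hS hs.1 hRS n hk eR hW hC
    (focal_eq_of_isSimple hS hs (hRS q.aR) (hRS q.bR) hab)
    (fun z hz hzz hz1 _ => nz_of_isSimple hS hs hcard hz hzz hz1)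

end Cfsg.Agent.H745.Q
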