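import Cfsg.Agent.ClassificationK.GTwoModel

/-!
# Quaternion subgroups of order `4 l` of the model Sylow 2-subgroup `T (2 l)` of `G₂(q)`, `4 ∣ l` (helper745, for S5176)
-/

set_option autoImplicit false
set_option linter.unusedSimpArgs false

namespace Cfsg.Agent.H745.Q.GTwoT

open Cfsg.Agent.ClassificationK.GTwoModel Cfsg.Agent.ClassificationK.GTwoModel.T

variable {l : ℕ}

theorem pow_A (i j : ZMod (2 * l)) (n : ℕ) :
    (⟨i, j, false, false⟩ : T (2 * l)) ^ n = ⟨n * i, n * j, false, false⟩ := by
  induction n with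
  | zero => simp [one_def]
  | succ n ih =>
    rw [pow_succ, ih, mul_mk]
    simp only [sg_false, cond_false, one_mul, Bool.xor_false]
    push_cast
    congr 1 <;> ring

theorem mk_eq_one {i j : ZMod (2 * l)} {e d : Bool} : (⟨i, j, e, d⟩ : T (2 * l)) = 1 ↔ i = 0 ∧ j = 0 ∧ e = false ∧ d = false := by
  rw [one_def, T.mk.injEq]

theorem neg_half : -(l : ZMod (2 * l)) = (l : ZMod (2 * l)) := by
  rw [neg_eq_iff_add_eq_zero]
  exact half_add_half l

theorem half_mul [NeZero l] {x : ZMod (2 * l)} (hx : (l : ZMod (2 * l)) * x ≠ 0) :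
    (l : ZMod (2 * l)) * x = (l : ZMod (2 * l)) := by
  rcases two_half l ((l : ZMod (2 * l)) * x) (by rw [← add_mul, half_add_half, zero_mul]) with h | h
  · exact absurd h hx
  · exact h

/-- **The quaternion subgroups of order `4 l`.** -/
theorem key [NeZero l] {c : ℕ} (hc : l = 4 * c) {α β : T (2 * l)} (h1 : α ^ l ≠ 1)
    (h3 : β * β = α ^ l) (h4 : β * α = α⁻¹ * β) :
    (∃ i p q : ZMod (2 * l), (l : ZMod (2 * l)) * i = l ∧ p + q = l ∧ α = ⟨i, -i, false, false⟩ ∧ β = ⟨p, q, false, true⟩) ∨
    (∃ i p q : ZMod (2 * l), (l : ZMod (2 * l)) * i = l ∧ p - q = l ∧ α = ⟨i, i, false, false⟩ ∧ β = ⟨p, q, true, true⟩) := by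
  have hl : (l : ZMod (2 * l)) = 4 * (c : ZMod (2 * l)) := by
    have := congrArg (Nat.cast : ℕ → ZMod (2 * l)) hc
    push_cast at this
    exact this
  have hpow : ∀ x : T (2 * l), x ^ l = (x * x) ^ (2 * c) := by
    intro x
    rw [← pow_two, ← pow_mul]
    congr 1
    omega
  have hb : β * β ≠ 1 := fun h => h1 (by rw [← h3, h])
  obtain ⟨i, j, e, d⟩ := α
  obtain ⟨p, q, e', d'⟩ := β
  cases e <;> cases d
  · -- `α` in the base group
    rw [pow_A, Ne, mk_eq_one] at h1
    rw [pow_A] at h3
    cases e' <;> cases d'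
    · exfalso
      simp only [mul_mk, inv_mk, sg_false, sg_true, cond_false, cond_true, Bool.xor_false, Bool.xor_true, Bool.not_true,
        Bool.not_false, T.mk.injEq, and_true] at h4 h3
      apply h1
      refine ⟨?_, ?_, rfl, rfl⟩
      · rw [hl]; linear_combination (2 * (c : ZMod (2 * l))) * h4.1
      · rw [hl]; linear_combination (2 * (c : ZMod (2 * l))) * h4.2
    · left
      simp only [mul_mk, inv_mk, sg_false, sg_true, cond_false, cond_true, Bool.xor_false, Bool.xor_true, Bool.not_true,
        Bool.not_false, T.mk.injEq, and_true] at h4 h3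
      have hj : j = -i := by linear_combination h4.1
      subst hj
      have hi : (l : ZMod (2 * l)) * i = l := by
        apply half_mul
        intro h0
        apply h1
        exact ⟨h0, by rw [mul_neg, h0, neg_zero], rfl, rfl⟩
      refine ⟨i, p, q, hi, ?_, rfl, rfl⟩
      linear_combination h3.1 + hi
    · exfalso
      apply hb
      rw [mul_mk, mk_eq_one]
      simp
    · right
      simp only [mul_mk, inv_mk, sg_false, sg_true, cond_false, cond_true, Bool.xor_false, Bool.xor_true, Bool.not_true,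
        Bool.not_false, T.mk.injEq, and_true] at h4 h3
      have hj : j = i := by linear_combination -h4.1
      subst hj
      have hi : (l : ZMod (2 * l)) * j = l := by
        apply half_mul
        intro h0
        apply h1
        exact ⟨h0, h0, rfl, rfl⟩
      refine ⟨j, p, q, hi, ?_, rfl, rfl⟩
      linear_combination h3.1 + hi
  · exfalso
    rw [hpow] at h1
    rw [mul_mk] at h1
    simp only [sg_false, cond_true, Bool.xor_self, one_mul] at h1
    rw [pow_A, Ne, mk_eq_one] at h1
    push_cast at h1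
    cases e' <;> cases d' <;>
      simp only [mul_mk, inv_mk, sg_false, sg_true, cond_false, cond_true, Bool.xor_false, Bool.xor_true, Bool.not_true,
        Bool.not_false, T.mk.injEq, and_true, Bool.xor_self] at h4
    · apply h1
      refine ⟨?_, ?_, rfl, rfl⟩ <;> linear_combination (c : ZMod (2 * l)) * (h4.1 + h4.2)
    · apply h1
      refine ⟨?_, ?_, rfl, rfl⟩ <;> linear_combination (c : ZMod (2 * l)) * (h4.1 + h4.2)
    · apply hb
      rw [mul_mk, mk_eq_one]
      simp
    · apply hb
      rw [mul_mk, mk_eq_one]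
      simp only [sg_true, cond_true, Bool.xor_self, and_true]
      constructor
      · linear_combination h4.1
      · linear_combination h4.2
  · exfalso
    apply h1
    rw [hpow]
    have : (⟨i, j, true, false⟩ : T (2 * l)) * ⟨i, j, true, false⟩ = 1 := by
      rw [mul_mk, mk_eq_one]
      simp
    rw [this, one_pow]
  · exfalso
    rw [hpow] at h1
    rw [mul_mk] at h1
    simp only [sg_true, cond_true, Bool.xor_self] at h1
    rw [pow_A, Ne, mk_eq_one] at h1
    push_cast at h1
    cases e' <;> cases d' <;>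
      simp only [mul_mk, inv_mk, sg_false, sg_true, cond_false, cond_true, Bool.xor_false, Bool.xor_true, Bool.not_true,
        Bool.not_false, T.mk.injEq, and_true, Bool.xor_self] at h4
    · apply h1
      refine ⟨?_, ?_, rfl, rfl⟩
      · linear_combination (c : ZMod (2 * l)) * (h4.1 - h4.2)
      · linear_combination -(c : ZMod (2 * l)) * (h4.1 - h4.2)
    · apply hb
      rw [mul_mk, mk_eq_one]
      simp only [sg_false, cond_true, Bool.xor_self, and_true]
      constructor <;> linear_combination h4.1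
    · apply hb
      rw [mul_mk, mk_eq_one]
      simp
    · apply h1
      refine ⟨?_, ?_, rfl, rfl⟩
      · linear_combination (c : ZMod (2 * l)) * (h4.1 - h4.2)
      · linear_combination -(c : ZMod (2 * l)) * (h4.1 - h4.2)

theorem z_eq (i : ZMod (2 * l)) (hi : (l : ZMod (2 * l)) * i = l) (ε : ZMod (2 * l)) (hε : ε = 1 ∨ ε = -1) :
    (⟨i, ε * i, false, false⟩ : T (2 * l)) ^ l = T.z l := by
  rw [pow_A, T.z, T.mk.injEq]
  refine ⟨hi, ?_, rfl, rfl⟩
  rcases hε with rfl | rfl
  · rw [one_mul, hi]
  · rw [neg_one_mul, mul_neg, hi, neg_half]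

/-- the involution of a quaternion subgroup of order `4 l` is `z` -/
theorem pow_eq_z [NeZero l] {c : ℕ} (hc : l = 4 * c) {α β : T (2 * l)} (h1 : α ^ l ≠ 1)
    (h3 : β * β = α ^ l) (h4 : β * α = α⁻¹ * β) : α ^ l = T.z l := by
  rcases key hc h1 h3 h4 with ⟨i, p, q, hi, -, rfl, -⟩ | ⟨i, p, q, hi, -, rfl, -⟩
  · have := z_eq i hi (-1) (Or.inr rfl)
    rwa [neg_one_mul] at this
  · have := z_eq i hi 1 (Or.inl rfl)
    rwa [one_mul] at this

/-- the only involution commuting with a quaternion subgroup of order `4 l` is `z` -/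
theorem cen_eq_z [NeZero l] {c : ℕ} (hc : l = 4 * c) {α β y : T (2 * l)} (h1 : α ^ l ≠ 1)
    (h3 : β * β = α ^ l) (h4 : β * α = α⁻¹ * β) (hy : y * y = 1) (hy1 : y ≠ 1) (hα : y * α = α * y)
    (hβ : y * β = β * y) : y = T.z l := by
  have hl : (l : ZMod (2 * l)) = 4 * (c : ZMod (2 * l)) := by
    have := congrArg (Nat.cast : ℕ → ZMod (2 * l)) hc
    push_cast at this
    exact this
  have hne : (l : ZMod (2 * l)) ≠ 0 := half_ne_zero l
  have h2i : ∀ i : ZMod (2 * l), (l : ZMod (2 * l)) * i = l → i + i ≠ 0 := by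
    intro i hi h
    apply hne
    rw [← hi, hl]
    linear_combination (2 * (c : ZMod (2 * l))) * h
  obtain ⟨x, w, e, d⟩ := y
  rw [Ne, mk_eq_one] at hy1
  rcases key hc h1 h3 h4 with ⟨i, p, q, hi, hpq, rfl, rfl⟩ | ⟨i, p, q, hi, hpq, rfl, rfl⟩ <;>
    cases e <;> cases d <;>
    simp only [one_def, mul_mk, inv_mk, sg_false, sg_true, cond_false, cond_true, Bool.xor_false, Bool.xor_true,
      Bool.not_true, Bool.not_false, T.mk.injEq, and_true, Bool.xor_self] at hy hα hβ
  · have h5 : x = w := by linear_combination hβ.1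
    subst h5
    rcases two_half l x (by linear_combination hy.1) with rfl | rfl
    · exact absurd ⟨rfl, rfl, rfl, rfl⟩ hy1
    · rfl
  · exact absurd (by linear_combination -hα.1) (h2i i hi)
  · exact absurd (by linear_combination -hα.1) (h2i i hi)
  · exfalso
    apply hne
    rw [← hpq]
    linear_combination -hβ.1 + hy.1
  · have h5 : w = -x := by linear_combination hβ.1
    subst h5
    rcases two_half l x (by linear_combination hy.1) with rfl | rfl
    · exact absurd ⟨rfl, neg_zero, rfl, rfl⟩ hy1
    · rw [T.z, T.mk.injEq]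
      exact ⟨rfl, neg_half, rfl, rfl⟩
  · exfalso
    apply hne
    rw [← hpq]
    linear_combination -hβ.1 + hy.1
  · exact absurd (by linear_combination -hα.1) (h2i i hi)
  · exact absurd (by linear_combination -hα.1) (h2i i hi)

end Cfsg.Agent.H745.Q.GTwoT
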