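import Cfsg.Agent.H784.Q.Defs
import Cfsg.Agent.H745.Q.GTwoT
import Cfsg.Agent.S4278
import Cfsg.Agent.S1055
import Cfsg.Agent.S1059
import Cfsg.Agent.S0261
import Cfsg.Agent.S5076
import Cfsg.Agent.H638.G2Iso
import Cfsg.Agent.H782.GroupFocal
import Cfsg.Agent.Lib.SylowNormalInf
import Cfsg.Agent.ClassificationK.GTwoSylow

/-!
# S5176, section 6: the situation for `G₂(q)` (helper745)

Main result: `g2_sit`.
-/

set_option autoImplicit false
set_option linter.unusedSimpArgs false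

namespace Cfsg.Agent.H745.Q.GTwoSit

open Cfsg Cfsg.FusionSystem Cfsg.Agent.H752 Cfsg.Agent.H784.SF Cfsg.Agent.H784.Q
open Cfsg.Agent.ClassificationK.GTwoModel Subgroup
open Cfsg.Agent.H745.Q.GTwoT

/-! ### the model -/

theorem z_mul_z (l : ℕ) : T.z l * T.z l = 1 := by
  rw [T.z, T.mul_mk, T.one_def]
  simp [half_add_half]

theorem z_ne (l : ℕ) [NeZero l] : T.z l ≠ 1 := by
  rw [T.z, T.one_def]
  intro h
  exact half_ne_zero l (T.mk.injEq _ _ _ _ _ _ _ _ ▸ h).1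

theorem z_comm (l : ℕ) (x : T (2 * l)) : x * T.z l = T.z l * x := by
  obtain ⟨i, j, e, d⟩ := x
  rw [T.z]
  have h := neg_half (l := l)
  cases e <;> cases d <;>
    simp only [T.mul_mk, sg_false, sg_true, cond_false, cond_true, Bool.xor_false, Bool.xor_true, Bool.not_true,
      Bool.not_false, Bool.false_xor, one_mul, neg_mul, h, add_comm]

theorem a'_mul_a' (l : ℕ) : T.a' l * T.a' l = 1 := by
  rw [T.a', T.mul_mk, T.one_def]
  simp [half_add_half]

theorem a'_ne (l : ℕ) [NeZero l] : T.a' l ≠ 1 := by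
  rw [T.a', T.one_def]
  intro h
  exact half_ne_zero l (T.mk.injEq _ _ _ _ _ _ _ _ ▸ h).1

theorem a'_ne_z (l : ℕ) [NeZero l] : T.a' l ≠ T.z l := by
  rw [T.a', T.z]
  intro h
  exact half_ne_zero l ((T.mk.injEq _ _ _ _ _ _ _ _ ▸ h).2.1).symm

/-! ### transport -/

section Tr

variable {Γ : Type*} [Group Γ] {P : Subgroup Γ} {l : ℕ} [NeZero l] (f : T (2 * l) ≃* P)

theorem tr_z {c : ℕ} (hc : l = 4 * c) {a b : Γ} (ha : a ∈ P) (hb : b ∈ P) (h1 : a ^ l ≠ 1) (h3 : b * b = a ^ l)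
    (h4 : b * a = a⁻¹ * b) : a ^ l = f (T.z l) := by
  obtain ⟨α, hα⟩ := f.surjective ⟨a, ha⟩
  obtain ⟨β, hβ⟩ := f.surjective ⟨b, hb⟩
  have ea : ((f α : P) : Γ) = a := by rw [hα]
  have eb : ((f β : P) : Γ) = b := by rw [hβ]
  have hinj : ∀ x y : T (2 * l), ((f x : P) : Γ) = f y → x = y := fun x y h => f.injective (Subtype.ext h)
  have e1 : α ^ l ≠ 1 := by
    intro h
    apply h1
    have := congrArg (fun x => ((f x : P) : Γ)) h
    simpa [ea] using this
  have e3 : β * β = α ^ l := by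
    apply hinj
    simp [ea, eb, h3]
  have e4 : β * α = α⁻¹ * β := by
    apply hinj
    simp [ea, eb, h4]
  have := congrArg (fun x => ((f x : P) : Γ)) (pow_eq_z hc e1 e3 e4)
  simpa [ea] using this

theorem tr_cen {c : ℕ} (hc : l = 4 * c) {a b y : Γ} (ha : a ∈ P) (hb : b ∈ P) (hyP : y ∈ P) (h1 : a ^ l ≠ 1)
    (h3 : b * b = a ^ l) (h4 : b * a = a⁻¹ * b) (hy : y * y = 1) (hy1 : y ≠ 1) (hya : y * a = a * y)
    (hyb : y * b = b * y) : y = f (T.z l) := by
  obtain ⟨α, hα⟩ := f.surjective ⟨a, ha⟩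
  obtain ⟨β, hβ⟩ := f.surjective ⟨b, hb⟩
  obtain ⟨γ, hγ⟩ := f.surjective ⟨y, hyP⟩
  have ea : ((f α : P) : Γ) = a := by rw [hα]
  have eb : ((f β : P) : Γ) = b := by rw [hβ]
  have ey : ((f γ : P) : Γ) = y := by rw [hγ]
  have hinj : ∀ x y : T (2 * l), ((f x : P) : Γ) = f y → x = y := fun x y h => f.injective (Subtype.ext h)
  have e1 : α ^ l ≠ 1 := by
    intro h
    apply h1
    have := congrArg (fun x => ((f x : P) : Γ)) h
    simpa [ea] using this
  have e3 : β * β = α ^ l := by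
    apply hinj
    simp [ea, eb, h3]
  have e4 : β * α = α⁻¹ * β := by
    apply hinj
    simp [ea, eb, h4]
  have e5 : γ * γ = 1 := by
    apply hinj
    simp [ey, hy]
  have e6 : γ ≠ 1 := by
    intro h
    apply hy1
    rw [← ey, h]
    simp
  have e7 : γ * α = α * γ := by
    apply hinj
    simp [ea, ey, hya]
  have e8 : γ * β = β * γ := by
    apply hinj
    simp [eb, ey, hyb]
  rw [← ey, cen_eq_z hc e1 e3 e4 e5 e6 e7 e8]

end Tr

/-! ### maps of the fusion system of a group -/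

section Maps

variable {Γ : Type*} [Group Γ] {P : Subgroup Γ}

theorem mp_iff {Q : Subgroup Γ} {f : Γ → Γ} (h : Mp (groupFusionSystem P) Q f) :
    Q ≤ P ∧ ∃ g : Γ, ∀ x ∈ Q, f x = g * x * g⁻¹ := by
  obtain ⟨φ, ⟨hQ, -, g, hg⟩, h1⟩ := h
  exact ⟨hQ, g, fun x hx => by rw [← h1 x hx, hg]⟩

theorem mp_conj {Q : Subgroup Γ} (hQ : Q ≤ P) (g : Γ) (hg : ∀ x ∈ Q, g * x * g⁻¹ ∈ P) :
    Mp (groupFusionSystem P) Q (fun x => g * x * g⁻¹) :=
  ⟨conjHom Q g, ⟨hQ, fun x => hg x x.2, g, fun _ => rfl⟩, fun _ _ => rfl⟩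

theorem focal_le {F : FusionSystem P} : F.focalSubgroup ≤ P := by
  rw [FusionSystem.focalSubgroup, closure_le]
  rintro _ ⟨Q, φ, x, hφ, rfl⟩
  exact P.mul_mem (P.inv_mem ((F.le_of_mem hφ).1 x.2)) ((F.le_of_mem hφ).2 x)

theorem focal_eq [Finite Γ] (P : Sylow 2 Γ) (h : commutator Γ = ⊤) :
    (groupFusionSystem (P : Subgroup Γ)).focalSubgroup = P := by
  have : Fact (Nat.Prime 2) := ⟨Nat.prime_two⟩
  refine le_antisymm focal_le ?_
  refine le_trans ?_ (Cfsg.Agent.H782.GroupFocal.focalSubgroup_le (P : Subgroup Γ))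
  rw [← Subgroup.commutator_inf_eq_focalSubgroup, h, top_inf_eq]

end Maps

/-! ### quaternion groups -/

section Quat

variable {Γ : Type*} [Group Γ] {R : Subgroup Γ} {l : ℕ}

theorem q_facts (g : QuaternionGroup l ≃* R) (h2 : 2 ≤ l) :
    ∃ a ∈ R, ∃ b ∈ R, orderOf a = 2 * l ∧ b * b = a ^ l ∧ b * a = a⁻¹ * b ∧ b ∉ zpowers a ∧
    ∀ x ∈ R, ∃ i : ℕ, x = a ^ i ∨ x = b * a ^ i := by
  have : NeZero l := ⟨by omega⟩
  have hc : ∀ x : QuaternionGroup l, ∀ n : ℕ, ((g (x ^ n) : R) : Γ) = ((g x : R) : Γ) ^ n := fun x n => by simp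
  have hord : orderOf ((g (.a 1) : R) : Γ) = 2 * l := by
    rw [Subgroup.orderOf_coe, MulEquiv.orderOf_eq, QuaternionGroup.orderOf_a_one]
  have hba : ((g (.xa 0) : R) : Γ) * ((g (.a 1) : R) : Γ) = ((g (.a 1) : R) : Γ)⁻¹ * ((g (.xa 0) : R) : Γ) := by
    have h1 : (QuaternionGroup.xa 0 : QuaternionGroup l) * QuaternionGroup.a 1 =
        (QuaternionGroup.a 1)⁻¹ * QuaternionGroup.xa 0 := by
      rw [eq_inv_mul_iff_mul_eq, QuaternionGroup.xa_mul_a, QuaternionGroup.a_mul_xa]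
      simp
    rw [← Subgroup.coe_mul, ← map_mul, h1]
    simp
  refine ⟨g (.a 1), (g _).2, g (.xa 0), (g _).2, hord, ?_, hba, ?_, ?_⟩
  · rw [← hc, QuaternionGroup.a_one_pow, ← Subgroup.coe_mul, ← map_mul, QuaternionGroup.xa_mul_xa]
    simp
  · intro hb
    have h5 : ((g (.xa 0) : R) : Γ) * ((g (.a 1) : R) : Γ) = ((g (.a 1) : R) : Γ) * ((g (.xa 0) : R) : Γ) := by
      obtain ⟨k, hk⟩ := mem_zpowers_iff.1 hb
      rw [← hk]
      exact (Commute.refl _).zpow_left k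
    rw [hba] at h5
    have h6 := mul_right_cancel h5
    have h7 : ((g (.a 1) : R) : Γ) ^ 2 = 1 := by
      rw [pow_two]
      nth_rewrite 1 [← h6]
      exact inv_mul_cancel _
    have h8 := orderOf_dvd_of_pow_eq_one h7
    rw [hord] at h8
    have := Nat.le_of_dvd (by norm_num) h8
    omega
  · intro x hx
    obtain ⟨y, hy⟩ := g.surjective ⟨x, hx⟩
    have hy' : ((g y : R) : Γ) = x := by rw [hy]
    have : NeZero (2 * l) := ⟨by omega⟩
    rcases y with i | i
    · refine ⟨i.val, Or.inl ?_⟩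
      rw [← hc, QuaternionGroup.a_one_pow, ZMod.natCast_zmod_val, hy']
    · refine ⟨i.val, Or.inr ?_⟩
      rw [← hc, QuaternionGroup.a_one_pow, ZMod.natCast_zmod_val, ← Subgroup.coe_mul, ← map_mul,
        QuaternionGroup.xa_mul_a, zero_add, hy']

end Quat

/-! ### the situation -/

section Main

local notation "SL2" => Matrix.SpecialLinearGroup (Fin 2)

variable {Γ : Type*} [Group Γ] [Finite Γ] {F : Type*} [Field F] [Fintype F]

/-- `P ⊓ L` is quaternion -/
theorem exists_quat (hF : Odd (Fintype.card F)) {m : ℕ} (hm : 3 ≤ m)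
    (hv : (Nat.card (SL2 F)).factorization 2 = m + 1) (P : Sylow 2 Γ) {z : Γ} (hz : ∀ s ∈ (P : Subgroup Γ), s * z = z * s)
    {L : Subgroup Γ} (hL : ∀ g, g * z = z * g → ∀ x ∈ L, g * x * g⁻¹ ∈ L) (hLz : ∀ x ∈ L, x * z = z * x)
    (e : L ≃* SL2 F) : Nonempty (QuaternionGroup (2 ^ (m - 1)) ≃* ↥((P : Subgroup Γ) ⊓ L)) := by
  have : Fact (Nat.Prime 2) := ⟨Nat.prime_two⟩
  set C := centralizer ({z} : Set Γ) with hC
  have hPC : (P : Subgroup Γ) ≤ C := fun s hs => mem_centralizer_singleton_iff.2 (hz s hs)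
  have hLC : L ≤ C := fun s hs => mem_centralizer_singleton_iff.2 (hLz s hs)
  have hn : (L.subgroupOf C).Normal := by
    constructor
    rintro n hn g
    exact hL g (mem_centralizer_singleton_iff.1 g.2) n hn
  have h1 := Cfsg.Agent.Lib.SylowNormalInf.not_dvd_relIndex (P.subtype hPC) (L.subgroupOf C)
  have h2 : ¬ 2 ∣ ((P : Subgroup Γ).subgroupOf L).index := by
    have e1 : ((P.subtype hPC : Sylow 2 C) : Subgroup C) = (P : Subgroup Γ).subgroupOf C := rfl
    rw [e1, Subgroup.relIndex_subgroupOf hLC] at h1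
    exact h1
  have h3 : IsPGroup 2 (((P : Subgroup Γ).subgroupOf L).map e.toMonoidHom) :=
    (P.isPGroup'.comap_of_injective L.subtype L.subtype_injective).map _
  have h4 : ¬ 2 ∣ (((P : Subgroup Γ).subgroupOf L).map e.toMonoidHom).index := by
    rw [show (((P : Subgroup Γ).subgroupOf L).map e.toMonoidHom).index = ((P : Subgroup Γ).subgroupOf L).index from
      Subgroup.index_map_equiv _ e]
    exact h2
  obtain ⟨k, hk, ⟨g⟩⟩ := S0261.result hF (h3.toSylow h4)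
  have h5 : Nat.card (QuaternionGroup (2 ^ k)) = 2 ^ (m + 1) := by
    rw [← Nat.card_congr g.toEquiv, Sylow.card_eq_multiplicity, hv]
  have : NeZero (2 ^ k) := ⟨by positivity⟩
  rw [Nat.card_eq_fintype_card, QuaternionGroup.card] at h5
  have h6 : k = m - 1 := by
    have : 2 ^ (k + 2) = 2 ^ (m + 1) := by rw [← h5]; ring
    have := Nat.pow_right_injective le_rfl this
    omega
  subst h6
  have e2 : ↥((P : Subgroup Γ).subgroupOf L) ≃* ↥((P : Subgroup Γ) ⊓ L) :=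
    (((P : Subgroup Γ).subgroupOf L).equivMapOfInjective L.subtype L.subtype_injective).trans
      (MulEquiv.subgroupCongr (Subgroup.subgroupOf_map_subtype _ _))
  have e3 : ↥((P : Subgroup Γ).subgroupOf L) ≃* ↥(((P : Subgroup Γ).subgroupOf L).map e.toMonoidHom) :=
    ((P : Subgroup Γ).subgroupOf L).equivMapOfInjective _ e.injective
  exact ⟨g.symm.trans (e3.symm.trans e2)⟩

theorem sit_of (hF : Odd (Fintype.card F)) {m : ℕ} (hm : 3 ≤ m)
    (hv : (Nat.card (SL2 F)).factorization 2 = m + 1)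
    (hL : ∀ z : Γ, orderOf z = 2 → ∃ L : Subgroup Γ, (∀ g, g * z = z * g → ∀ x ∈ L, g * x * g⁻¹ ∈ L) ∧
      (∀ x ∈ L, x * z = z * x) ∧ Nonempty (L ≃* SL2 F))
    (hconj : ∀ x y : Γ, orderOf x = 2 → orderOf y = 2 → IsConj x y) (hperf : commutator Γ = ⊤) (P : Sylow 2 Γ)
    (f : T (2 * 2 ^ (m - 1)) ≃* (P : Subgroup Γ)) :
    ∃ (R : Subgroup Γ) (a b z r : Γ), Sit (groupFusionSystem (P : Subgroup Γ)) R a b z r m := by
  have : Fact (Nat.Prime 2) := ⟨Nat.prime_two⟩
  set l := 2 ^ (m - 1) with hl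
  have hlp : 0 < l := by positivity
  have : NeZero l := ⟨hlp.ne'⟩
  have hc : l = 4 * 2 ^ (m - 3) := by
    rw [hl, show m - 1 = (m - 3) + 2 by omega, pow_add]
    ring
  have hl2 : 2 * l = 2 ^ m := by
    rw [hl, ← pow_succ']
    congr 1
    omega
  have h4l : 4 ≤ l := by
    rw [hc]
    have : 0 < 2 ^ (m - 3) := by positivity
    omega
  obtain ⟨z, hz⟩ : ∃ z : Γ, z = f (T.z l) := ⟨_, rfl⟩
  have hzz : z * z = 1 := by
    rw [hz, ← Subgroup.coe_mul, ← map_mul, z_mul_z, map_one]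
    rfl
  have hz1 : z ≠ 1 := by
    intro h
    rw [hz] at h
    have h1 : f (T.z l) = 1 := Subtype.ext h
    rw [map_eq_one_iff f f.injective] at h1
    exact z_ne l h1
  have ho : orderOf z = 2 := orderOf_eq_prime (by rw [pow_two, hzz]) hz1
  have hzc : ∀ s ∈ (P : Subgroup Γ), s * z = z * s := by
    intro s hs
    obtain ⟨x, hx⟩ := f.surjective ⟨s, hs⟩
    have hx' : ((f x : (P : Subgroup Γ)) : Γ) = s := by rw [hx]
    rw [← hx', hz, ← Subgroup.coe_mul, ← map_mul, z_comm, map_mul, Subgroup.coe_mul]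
  obtain ⟨L, hLn, hLz, ⟨e⟩⟩ := hL z ho
  obtain ⟨g⟩ := exists_quat hF hm hv P hzc hLn hLz e
  obtain ⟨a, haR, b, hbR, hoa, hbb, hba, hbA, hgen⟩ := q_facts g (by omega : 2 ≤ 2 ^ (m - 1))
  rw [← hl] at hoa hbb
  have hal : a ^ l ≠ 1 := by
    intro h
    have := orderOf_dvd_of_pow_eq_one h
    rw [hoa] at this
    have := Nat.le_of_dvd hlp this
    omega
  have haz : a ^ l = z := by
    rw [hz]
    exact tr_z f hc haR.1 hbR.1 hal hbb hba
  -- maps fixing `z` preserve `R`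
  have hfix : ∀ (g : Γ), g * z = z * g → ∀ x ∈ (P : Subgroup Γ) ⊓ L, g * x * g⁻¹ ∈ (P : Subgroup Γ) →
      g * x * g⁻¹ ∈ (P : Subgroup Γ) ⊓ L := fun g hg x hx hgx => ⟨hgx, hLn g hg x hx.2⟩
  refine ⟨(P : Subgroup Γ) ⊓ L, a, b, z, a ^ 2 ^ (m - 2), ?_⟩
  refine { qr := ⟨hm, haR, hbR, by rw [hoa, hl2], haz.symm, rfl, by rw [hbb, haz], hba, hbA, hgen⟩
           hS := P.isPGroup'
           sat := S5076.result 2 P
           RS := inf_le_left
           weak := ?_
           cen := ?_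
           foc := focal_eq P hperf
           nz := ?_ }
  · intro Q φ hφ hRQ x hx
    obtain ⟨hQP, g, hg⟩ := mp_iff hφ
    have hgP : ∀ x ∈ (P : Subgroup Γ) ⊓ L, g * x * g⁻¹ ∈ (P : Subgroup Γ) := by
      intro x hx
      rw [← hg x (hRQ hx)]
      exact hφ.mem (hRQ hx)
    have hcj : ∀ (x : Γ) (n : ℕ), (g * x * g⁻¹) ^ n = g * x ^ n * g⁻¹ := fun x n => conj_pow
    have h1 : (g * a * g⁻¹) ^ l = f (T.z l) := by
      refine tr_z f hc (hgP a haR) (hgP b hbR) ?_ ?_ ?_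
      · rw [hcj]
        intro h
        apply hal
        rw [mul_inv_eq_one, mul_eq_left] at h
        exact h
      · rw [hcj, ← hbb]
        group
      · calc g * b * g⁻¹ * (g * a * g⁻¹) = g * (b * a) * g⁻¹ := by group
          _ = (g * a * g⁻¹)⁻¹ * (g * b * g⁻¹) := by rw [hba]; group
    rw [hcj, haz, ← hz] at h1
    rw [hg x (hRQ hx)]
    exact hfix g (mul_inv_eq_iff_eq_mul.1 h1) x hx (hgP x hx)
  · intro y hy hyy hy1 Q φ hφ hyQ hφy x hx hxQ
    have hyc : ∀ x ∈ (P : Subgroup Γ) ⊓ L, x * y = y * x := fun x hx => mem_centralizer_iff.1 hy.2 x hx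
    have h1 : y = z := by
      rw [hz]
      exact tr_cen f hc haR.1 hbR.1 hy.1 hal hbb hba hyy hy1 (hyc a haR).symm (hyc b hbR).symm
    subst h1
    obtain ⟨hQP, g, hg⟩ := mp_iff hφ
    rw [hg x hxQ]
    refine hfix g ?_ x hx ?_
    · rw [hg y hyQ] at hφy
      exact mul_inv_eq_iff_eq_mul.1 hφy
    · rw [← hg x hxQ]
      exact hφ.mem hxQ
  · obtain ⟨t, ht⟩ : ∃ t : Γ, t = f (T.a' l) := ⟨_, rfl⟩
    have htt : t * t = 1 := by
      rw [ht, ← Subgroup.coe_mul, ← map_mul, a'_mul_a', map_one]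
      rfl
    have ht1 : t ≠ 1 := by
      intro h
      rw [ht] at h
      have h1 : f (T.a' l) = 1 := Subtype.ext h
      rw [map_eq_one_iff f f.injective] at h1
      exact a'_ne l h1
    have hto : orderOf t = 2 := orderOf_eq_prime (by rw [pow_two, htt]) ht1
    obtain ⟨g, hg⟩ := isConj_iff.1 (hconj z t ho hto)
    refine ⟨t, ?_, fun x => g * x * g⁻¹, ?_, hg⟩
    · intro h
      rw [ht, hz] at h
      exact a'_ne_z l (f.injective (Subtype.ext h))
    · refine mp_conj ?_ g ?_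
      · rw [zpowers_le, hz]
        exact (f _).2
      · intro x hx
        obtain ⟨k, rfl⟩ := mem_zpowers_iff.1 hx
        rw [← conj_zpow, hg, ht]
        exact zpow_mem (f _).2 k

end Main

/-! ### `G₂(q)` -/

section GTwo

open Cfsg.Lie Cfsg.Agent.H556.SLPair

local notation "SL2" => Matrix.SpecialLinearGroup (Fin 2)

/-- `HasL F Γ` : every involution `z` of `Γ` has a subgroup `L ≅ SL₂(F)`, normal in `C(z)` -/
def HasL (F : Type*) [Field F] (Γ : Type*) [Group Γ] : Prop :=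
  ∀ z : Γ, orderOf z = 2 → ∃ L : Subgroup Γ, (∀ g, g * z = z * g → ∀ x ∈ L, g * x * g⁻¹ ∈ L) ∧
      (∀ x ∈ L, x * z = z * x) ∧ Nonempty (L ≃* SL2 F)

theorem pair_norm {F : Type*} [Field F] {Γ : Type*} [Group Γ] (P : Pair F Γ)
    (hC : centralizer ({P.z} : Set Γ) = P.K) (g : Γ) (hg : g * P.z = P.z * g) (x : Γ) (hx : x ∈ P.φ.range) :
    g * x * g⁻¹ ∈ P.φ.range := by
  have h1 : P.K ≤ normalizer ((P.φ.range : Subgroup Γ) : Set Γ) := by
    rw [P.K_le_iff]
    refine ⟨fun a => le_normalizer ⟨a, rfl⟩, fun a => ?_, ?_⟩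
    · rw [mem_normalizer_iff]
      intro y
      have key : ∀ (a : SL2 F), ∀ y ∈ P.φ.range, P.ψ a * y * (P.ψ a)⁻¹ = y := by
        rintro a _ ⟨b, rfl⟩
        rw [← (P.comm b a).eq, mul_inv_cancel_right]
      constructor
      · intro hy
        rw [key a y hy]
        exact hy
      · intro hy
        have := key a⁻¹ _ hy
        rw [map_inv] at this
        have e : (P.ψ a)⁻¹ * (P.ψ a * y * (P.ψ a)⁻¹) * (P.ψ a)⁻¹⁻¹ = y := by group
        rw [e] at this
        rw [this]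
        exact hy
    · have hdi : P.d⁻¹ = P.d := inv_eq_of_mul_eq_one_right P.dd
      have key : ∀ y ∈ P.φ.range, P.d * y * P.d⁻¹ ∈ P.φ.range := by
        rintro _ ⟨b, rfl⟩
        rw [P.dφ, mul_inv_cancel_right]
        exact ⟨_, rfl⟩
      rw [mem_normalizer_iff]
      intro y
      refine ⟨key y, fun hy => ?_⟩
      have := key _ hy
      have e : P.d * (P.d * y * P.d⁻¹) * P.d⁻¹ = y := by
        nth_rewrite 1 [← hdi]
        nth_rewrite 4 [← hdi]
        group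
      rwa [e] at this
  have h2 : g ∈ P.K := by
    rw [← hC]
    exact mem_centralizer_singleton_iff.2 hg
  exact (mem_normalizer_iff.1 (h1 h2) x).1 hx

theorem hasL_chev {F : Type*} [Field F] [Fintype F] (hF : Odd (Fintype.card F)) : HasL F ↥(chevG2.group F) := by
  intro z hz
  obtain ⟨P, hC, -, hconj⟩ := Cfsg.Agent.S4278.main hF
  obtain ⟨c, hc⟩ := isConj_iff.1 (hconj z hz)
  refine ⟨P.φ.range.map (MulAut.conj c).toMonoidHom, ?_, ?_, ?_⟩
  · rintro g hg _ ⟨x, hx, rfl⟩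
    have h1 : (c⁻¹ * g * c) * P.z = P.z * (c⁻¹ * g * c) := by
      have e1 : P.z = c⁻¹ * z * c := by rw [← hc]; group
      rw [e1]
      calc c⁻¹ * g * c * (c⁻¹ * z * c) = c⁻¹ * (g * z) * c := by group
        _ = c⁻¹ * z * c * (c⁻¹ * g * c) := by rw [hg]; group
    refine ⟨_, pair_norm P hC _ h1 x hx, ?_⟩
    show c * (c⁻¹ * g * c * x * (c⁻¹ * g * c)⁻¹) * c⁻¹ = g * (c * x * c⁻¹) * g⁻¹
    group
  · rintro _ ⟨x, ⟨a, rfl⟩, rfl⟩
    show c * P.φ a * c⁻¹ * z = z * (c * P.φ a * c⁻¹)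
    have h1 : P.φ a * P.z = P.z * P.φ a := by
      rw [Pair.z, ← map_mul, ← map_mul]
      simp
    rw [← hc]
    calc c * P.φ a * c⁻¹ * (c * P.z * c⁻¹) = c * (P.φ a * P.z) * c⁻¹ := by group
      _ = c * P.z * c⁻¹ * (c * P.φ a * c⁻¹) := by rw [h1]; group
  · exact ⟨((MonoidHom.ofInjective P.injφ).trans
      (P.φ.range.equivMapOfInjective _ (MulAut.conj c).injective)).symm⟩

theorem HasL.congr {F : Type*} [Field F] {Γ Γ' : Type*} [Group Γ] [Group Γ'] (e : Γ ≃* Γ') (h : HasL F Γ') :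
    HasL F Γ := by
  intro z hz
  obtain ⟨L, h1, h2, ⟨f⟩⟩ := h (e z) (by rw [MulEquiv.orderOf_eq, hz])
  refine ⟨L.comap e.toMonoidHom, ?_, ?_, ?_⟩
  · intro g hg x hx
    show e (g * x * g⁻¹) ∈ L
    rw [map_mul, map_mul, map_inv]
    exact h1 (e g) (by rw [← map_mul, hg, map_mul]) _ hx
  · intro x hx
    apply e.injective
    rw [map_mul, map_mul]
    exact h2 _ hx
  · have e1 : (L.comap e.toMonoidHom).map e.toMonoidHom = L := Subgroup.map_comap_eq_self_of_surjective e.surjective L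
    exact ⟨(((L.comap e.toMonoidHom).equivMapOfInjective _ e.injective).trans (MulEquiv.subgroupCongr e1)).trans f⟩

/-- powers of 5 -/
theorem five_pow (j : ℕ) : ∃ u : ℕ, Odd u ∧ 5 ^ 2 ^ j = 1 + 2 ^ (j + 2) * u := by
  induction j with
  | zero => exact ⟨1, by decide, by norm_num⟩
  | succ j ih =>
    obtain ⟨u, hu, h⟩ := ih
    refine ⟨u * (1 + 2 ^ (j + 1) * u), hu.mul ?_, ?_⟩
    · have : Even (2 ^ (j + 1) * u) := (Nat.even_pow.2 ⟨even_two, by omega⟩).mul_right u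
      rw [add_comm]
      exact this.add_one
    · rw [pow_succ, pow_mul, h]
      ring

theorem commutator_eq_top {G : Type*} [Group G] (hS : IsSimpleGroup G) (hc : ¬ IsMulCommutative G) :
    commutator G = ⊤ := by
  rcases (inferInstance : (commutator G).Normal).eq_bot_or_eq_top with h | h
  · exfalso
    apply hc
    refine ⟨⟨fun a b => ?_⟩⟩
    have h1 : a * b * a⁻¹ * b⁻¹ ∈ commutator G := commutator_mem_commutator (mem_top a) (mem_top b)
    rw [h, mem_bot, mul_inv_eq_one, mul_inv_eq_iff_eq_mul] at h1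
    exact h1
  · exact h

theorem sit_G2 {K : Type*} [Field K] [Fintype K] {m : ℕ} (hm : 3 ≤ m) (hcard : Fintype.card K = 5 ^ 2 ^ (m - 2)) :
    ∃ (P : Sylow 2 ↥(Cfsg.Lie.G2 K)) (R : Subgroup ↥(Cfsg.Lie.G2 K)) (a b z r : ↥(Cfsg.Lie.G2 K)),
      Sit (groupFusionSystem (P : Subgroup ↥(Cfsg.Lie.G2 K))) R a b z r m ∧ Nat.card P = 4 * (2 ^ m) ^ 2 := by
  have h2p : Fact (Nat.Prime 2) := ⟨Nat.prime_two⟩
  have hF : Odd (Fintype.card K) := by
    rw [hcard]
    exact (by decide : Odd 5).pow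
  obtain ⟨u, hu, hq⟩ := five_pow (m - 1)
  have hq2 : Fintype.card K ^ 2 - 1 = 2 ^ (m + 1) * u := by
    rw [hcard, ← pow_mul, ← pow_succ, show m - 2 + 1 = m - 1 by omega, hq, show m - 1 + 2 = m + 1 by omega]
    omega
  have hu0 : u ≠ 0 := by
    rintro rfl
    exact absurd hu (by decide)
  have hcu : ∀ k, (2 ^ k * u).factorization 2 = k := by
    intro k
    rw [Nat.factorization_mul (by positivity) hu0, Nat.Prime.factorization_pow Nat.prime_two]
    simp only [Finsupp.add_apply, Finsupp.single_eq_same]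
    rw [Nat.factorization_eq_zero_of_not_dvd, add_zero]
    intro hd
    exact (Nat.not_even_iff_odd.2 hu) (even_iff_two_dvd.2 hd)
  have hv : (Nat.card (SL2 K)).factorization 2 = m + 1 := by
    rw [Cfsg.Agent.ClassicalGeometry.PSL2Basic.card_SL2, hq2,
      Nat.factorization_mul (by rw [hcard]; positivity) (mul_ne_zero (by positivity) hu0), Finsupp.add_apply, hcu,
      Nat.factorization_eq_zero_of_not_dvd, zero_add]
    intro hd
    exact (Nat.not_even_iff_odd.2 hF) (even_iff_two_dvd.2 hd)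
  have hone : ∃ a : K, a ≠ 0 ∧ a ≠ 1 := by
    by_contra hcon
    push Not at hcon
    have h1 : Fintype.card K ≤ 2 := by
      classical
      calc Fintype.card K = (Finset.univ : Finset K).card := rfl
        _ ≤ ({0, 1} : Finset K).card := Finset.card_le_card fun x _ => by
            by_cases hx : x = 0
            · simp [hx]
            · simp [hcon x hx]
        _ ≤ 2 := Finset.card_le_two
    have h2 : 5 ^ 1 ≤ 5 ^ 2 ^ (m - 2) := Nat.pow_le_pow_right (by norm_num) Nat.one_le_two_pow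
    omega
  obtain ⟨hs, hnc⟩ := S1055.result hone
  obtain ⟨e⟩ := Cfsg.Agent.H638.G2Iso.equiv (F := K)
  have hperf : commutator ↥(Cfsg.Lie.G2 K) = ⊤ := by
    have h1 := commutator_eq_top hs hnc
    have h2 : (commutator ↥(Cfsg.Lie.G2 K)).map e.toMonoidHom = commutator ↥(chevG2.group K) := by
      rw [commutator_def, commutator_def, Subgroup.map_commutator, Subgroup.map_top_of_surjective _ e.surjective]
    rw [h1] at h2
    rw [eq_top_iff]
    intro x _
    have h3 : e x ∈ (commutator ↥(Cfsg.Lie.G2 K)).map e.toMonoidHom := by rw [h2]; exact mem_top _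
    obtain ⟨y, hy, hyx⟩ := h3
    rwa [← e.injective hyx]
  have hconj : ∀ x y : ↥(Cfsg.Lie.G2 K), orderOf x = 2 → orderOf y = 2 → IsConj x y := by
    intro x y hx hy
    obtain ⟨c, hc⟩ := isConj_iff.1 (S4278.result hF (e x) (e y) (by rw [MulEquiv.orderOf_eq, hx])
      (by rw [MulEquiv.orderOf_eq, hy]))
    refine isConj_iff.2 ⟨e.symm c, e.injective ?_⟩
    rw [map_mul, map_mul, map_inv, MulEquiv.apply_symm_apply, hc]
  have hcc : Nat.card ↥(chevG2.group K) =
      Fintype.card K ^ 6 * (Fintype.card K ^ 2 - 1) * (Fintype.card K ^ 6 - 1) := S1059.result (F := K) rfl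
  obtain ⟨P'⟩ : Nonempty (Sylow 2 ↥(chevG2.group K)) := inferInstance
  obtain ⟨k, hk, ⟨f⟩⟩ := Cfsg.Agent.ClassificationK.GTwoSylow.exists_equiv hF hcc P'
  have hP' : Nat.card P' = 2 ^ (2 * (m + 1)) := by
    rw [Sylow.card_eq_multiplicity, hcc, Cfsg.Agent.ClassificationK.GTwoSylow.factorization_card _ (m - 1) u hF
      Fintype.one_lt_card hu (by rw [hq2, show m + 1 = (m - 1) + 2 by omega, pow_add]; ring)]
    congr 1
    omega
  have hkm : k = m - 1 := by
    have h1 : Nat.card P' = 2 ^ (2 * (k + 2)) := by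
      rw [← Nat.card_congr f.toEquiv, T.card_T]
      ring
    rw [hP'] at h1
    have := Nat.pow_right_injective le_rfl h1
    omega
  subst hkm
  let P : Sylow 2 ↥(Cfsg.Lie.G2 K) := P'.mapSurjective (f := e.symm.toMonoidHom) e.symm.surjective
  have ePP : ↥(P' : Subgroup ↥(chevG2.group K)) ≃* ↥(P : Subgroup ↥(Cfsg.Lie.G2 K)) :=
    (P' : Subgroup ↥(chevG2.group K)).equivMapOfInjective _ e.symm.injective
  obtain ⟨R, a, b, z, r, h⟩ := sit_of hF hm hv ((hasL_chev hF).congr e) hconj hperf P (f.trans ePP)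
  refine ⟨P, R, a, b, z, r, h, ?_⟩
  rw [← Nat.card_congr ePP.toEquiv, hP']
  ring

/-- **S5176, section 6.** -/
theorem g2_sit (m : ℕ) (hm : 3 ≤ m) : ∃ (K : Type) (_ : Field K) (_ : Fintype K), Odd (Fintype.card K) ∧
    ∃ (P : Sylow 2 ↥(Cfsg.Lie.G2 K)) (R : Subgroup ↥(Cfsg.Lie.G2 K)) (a b z r : ↥(Cfsg.Lie.G2 K)),
      Sit (groupFusionSystem (P : Subgroup ↥(Cfsg.Lie.G2 K))) R a b z r m ∧ Nat.card P = 4 * (2 ^ m) ^ 2 := by
  have h5 : Fact (Nat.Prime 5) := ⟨by norm_num⟩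
  have hfield : Fintype (GaloisField 5 (2 ^ (m - 2))) := Fintype.ofFinite _
  have hcard : Fintype.card (GaloisField 5 (2 ^ (m - 2))) = 5 ^ 2 ^ (m - 2) := by
    rw [← Nat.card_eq_fintype_card, GaloisField.card 5 _ (by positivity)]
  refine ⟨GaloisField 5 (2 ^ (m - 2)), inferInstance, hfield, ?_, sit_G2 hm hcard⟩
  rw [hcard]
  exact (by decide : Odd 5).pow

end GTwo

end Cfsg.Agent.H745.Q.GTwoSit
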