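import Cfsg.Agent.H752.Gen
import Cfsg.Agent.H802.FusEss

/-! # Generation of a saturated fusion system by odd order automorphisms that do not extend (helper745) -/
set_option autoImplicit false

open Cfsg Cfsg.FusionSystem Cfsg.Agent.H752 Cfsg.Agent.H802

universe u

namespace Cfsg.Agent.H745.Q

variable {Ω : Type u} [Group Ω] {S : Subgroup Ω}

/-- If `T ∩ Q` is invariant under `Aut_F(Q)`, the automorphisms `β` with `x⁻¹ β(x) ∈ T` form a `p`-group, and some `g ∈ N_S(Q) ∖ Q`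
induces such an automorphism, then all of `Aut_F(Q)` extends to larger subgroups. -/
theorem extends_of_normal [Finite S] {F : FusionSystem S} {p : ℕ} [Fact p.Prime] {Q T : Subgroup Ω}
    (hQa : F.IsFullyAutomized p Q) (hQr : F.IsReceptive Q)
    (hT : ∀ α ∈ F.autGroup Q, ∀ x : Q, (x : Ω) ∈ T → ((α x : Q) : Ω) ∈ T)
    (h2 : ∀ β ∈ F.autGroup Q, Nat.Coprime (orderOf β) p → (∀ x : Q, (x : Ω)⁻¹ * (β x : Q) ∈ T) → β = 1)
    {g : Ω} (hg : g ∈ S) (hgn : g ∈ Subgroup.normalizer (Q : Set Ω)) (hgQ : g ∉ Q)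
    (hgT : ∀ x ∈ Q, x⁻¹ * (g * x * g⁻¹) ∈ T) {α : MulAut Q} (hα : α ∈ F.autGroup Q) : Extends F Q α := by
  have hQS := hQr.1
  have hfQ : Finite Q := finite_of_le hQS
  have hfA : Finite (F.autGroup Q) := inferInstance
  let B : Subgroup (F.autGroup Q) :=
    { carrier := {β | ∀ x : Q, (x : Ω)⁻¹ * ((β : MulAut Q) x : Q) ∈ T}
      one_mem' := fun x => by
        show (x : Ω)⁻¹ * ((1 : MulAut Q) x : Q) ∈ T
        simp [one_mem]
      mul_mem' := by
        intro β γ hβ hγ x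
        show (x : Ω)⁻¹ * (((β : MulAut Q) * (γ : MulAut Q)) x : Q) ∈ T
        rw [MulAut.mul_apply]
        have h1 := hγ x
        have h3 := hβ ((γ : MulAut Q) x)
        have h4 := mul_mem h1 h3
        simpa [mul_assoc] using h4
      inv_mem' := by
        intro β hβ x
        show (x : Ω)⁻¹ * ((β : MulAut Q)⁻¹ x : Q) ∈ T
        have h1 := hβ ((β : MulAut Q)⁻¹ x)
        rw [MulAut.apply_inv_self] at h1
        have h3 := inv_mem h1
        simpa using h3 }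
  have hB : ∀ β : F.autGroup Q, β ∈ B ↔ ∀ x : Q, (x : Ω)⁻¹ * ((β : MulAut Q) x : Q) ∈ T := fun β => Iff.rfl
  have hBn : B.Normal := by
    refine ⟨fun β hβ γ => ?_⟩
    intro x
    show (x : Ω)⁻¹ * (((γ : MulAut Q) * (β : MulAut Q) * (γ : MulAut Q)⁻¹) x : Q) ∈ T
    rw [MulAut.mul_apply, MulAut.mul_apply]
    set y := (γ : MulAut Q)⁻¹ x with hy
    have h3 : x = (γ : MulAut Q) y := by rw [hy, MulAut.apply_inv_self]
    have h4 := hT _ γ.2 (y⁻¹ * (β : MulAut Q) y) (hβ y)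
    rw [map_mul, map_inv, ← h3] at h4
    exact h4
  have hBp : IsPGroup p B := by
    intro β
    obtain ⟨i, j, hij, ⟨k, hk⟩, hj⟩ := TwoFusion.PResidual.exists_pPart_mul_pPrimePart p (β : F.autGroup Q)
    have h3 : (β : F.autGroup Q) ^ j ∈ B := zpow_mem β.2 j
    have h4 : (((β : F.autGroup Q) ^ j : F.autGroup Q) : MulAut Q) = 1 :=
      h2 _ ((β : F.autGroup Q) ^ j).2 (by rw [Subgroup.orderOf_coe]; exact hj) ((hB _).1 h3)
    have h5 : (β : F.autGroup Q) ^ j = 1 := Subtype.ext h4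
    rw [h5, mul_one] at hij
    refine ⟨k, Subtype.ext ?_⟩
    rw [Subgroup.coe_pow, Subgroup.coe_one, hij, ← hk, pow_orderOf_eq_one]
  obtain ⟨P, hP⟩ := hQa.2
  have hBP : B ≤ (P : Subgroup (F.autGroup Q)) := hBp.le_sylow_of_normal P
  obtain ⟨γ, hγ⟩ := exists_conjAut hgn
  have hγA : γ ∈ F.autGroup Q := autInducedBy_le_autGroup F hQS ((mem_autInducedBy_iff S Q γ).2 ⟨g, hg, hγ⟩)
  have hγB : (⟨γ, hγA⟩ : F.autGroup Q) ∈ B := fun x => by
    show (x : Ω)⁻¹ * (γ x : Q) ∈ T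
    rw [hγ x]
    exact hgT x x.2
  have h3 := hBP (hBn.conj_mem _ hγB ⟨α, hα⟩)
  rw [hP, Subgroup.mem_subgroupOf] at h3
  exact extends_of_conj_mem hQr hα hg hgQ hγ h3

/-- **Generation**: a class of maps closed under restriction, composition and inverse, containing the conjugations, contains all maps if,
for each centric, fully automized and receptive `Q`, each subgroup `D` of `Aut(Q)` containing all extendable elements of
`Aut_F(Q)` and the elements of the class contains the elements of `Aut_F(Q)` of order prime to `p`. -/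
theorem gen_odd (F : FusionSystem S) [Finite S] {p : ℕ} [Fact p.Prime] (hS : IsPGroup p S)
    (hF : F.IsSaturated p) (M : Subgroup Ω → (Ω → Ω) → Prop)
    (h_congr : ∀ (P : Subgroup Ω) (f g : Ω → Ω), Mp F P f → M P f → (∀ x ∈ P, g x = f x) → M P g)
    (h_res : ∀ (P R : Subgroup Ω) (f : Ω → Ω), Mp F P f → M P f → R ≤ P → M R f)
    (h_comp : ∀ (P Q : Subgroup Ω) (f g : Ω → Ω), Mp F P f → Mp F Q g → M P f → M Q g →
      (∀ x ∈ P, f x ∈ Q) → M P (fun x => g (f x)))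
    (h_inv : ∀ (P R : Subgroup Ω) (f g : Ω → Ω), Mp F P f → M P f → Mp F R g →
      (∀ y ∈ R, ∃ x ∈ P, f x = y ∧ g y = x) → M R g)
    (h_conj : ∀ P : Subgroup Ω, P ≤ S → ∀ s ∈ S, M P (fun x => s * x * s⁻¹))
    (h_odd : ∀ Q : Subgroup Ω, F.IsFullyAutomized p Q → F.IsReceptive Q → centralizerIn S Q ≤ Q →
      ∀ D : Subgroup (MulAut Q), (∀ α ∈ F.autGroup Q, Extends F Q α → α ∈ D) →
      (∀ α ∈ F.autGroup Q, M Q (ex fun x => ((α x : Q) : Ω)) → α ∈ D) →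
      ∀ α ∈ F.autGroup Q, Nat.Coprime (orderOf α) p → α ∈ D) :
    ∀ (P : Subgroup Ω) (f : Ω → Ω), Mp F P f → M P f := by
  refine mp_induction F hS hF M h_congr h_res h_comp h_inv fun Q hQa hQr IH α hα f hf => ?_
  have hQS : Q ≤ S := hQa.1
  have hfQ : Finite Q := H802.finite_of_le hQS
  have hmp : ∀ β ∈ F.autGroup Q, Mp F Q (ex fun x => ((β x : Q) : Ω)) := fun β hβ =>
    (mp_iff_autGroup hQS β).1 hβ
  have hmul : ∀ β ∈ F.autGroup Q, ∀ γ ∈ F.autGroup Q, M Q (ex fun x => ((β x : Q) : Ω)) →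
      M Q (ex fun x => ((γ x : Q) : Ω)) → M Q (ex fun x => (((β * γ) x : Q) : Ω)) := by
    intro β hβ γ hγ h1 h2
    have h3 : ∀ x ∈ Q, ex (fun x => ((γ x : Q) : Ω)) x ∈ Q := fun x hx => by
      rw [ex_apply _ hx]
      exact (γ _).2
    refine h_congr Q _ _ ((hmp γ hγ).comp (hmp β hβ) h3)
      (h_comp Q Q _ _ (hmp γ hγ) (hmp β hβ) h2 h1 h3) fun x hx => ?_
    rw [ex_apply _ hx, ex_apply (fun x => ((γ x : Q) : Ω)) hx, ex_apply _ (γ ⟨x, hx⟩).2]
    rfl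
  have hinv : ∀ β ∈ F.autGroup Q, M Q (ex fun x => ((β x : Q) : Ω)) →
      M Q (ex fun x => ((β⁻¹ x : Q) : Ω)) := by
    intro β hβ h1
    refine h_inv Q Q _ _ (hmp β hβ) h1 (hmp β⁻¹ (inv_mem hβ)) fun y hy => ?_
    refine ⟨((β⁻¹ ⟨y, hy⟩ : Q) : Ω), (β⁻¹ ⟨y, hy⟩).2, ?_, ex_apply _ hy⟩
    rw [ex_apply _ (β⁻¹ ⟨y, hy⟩).2]
    show ((β (β⁻¹ ⟨y, hy⟩) : Q) : Ω) = y
    rw [MulAut.apply_inv_self]
  have hone : M Q (ex fun x => (((1 : MulAut Q) x : Q) : Ω)) := by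
    refine h_congr Q _ _ (mp_conj F hQS (one_mem S)) (h_conj Q hQS 1 (one_mem S)) fun x hx => ?_
    rw [ex_apply _ hx]
    simp
  -- the subgroup of automorphisms in the class
  let D : Subgroup (MulAut Q) :=
    { carrier := {β | β ∈ F.autGroup Q ∧ M Q (ex fun x => ((β x : Q) : Ω))}
      one_mem' := ⟨one_mem _, hone⟩
      mul_mem' := fun {β γ} hβ hγ => ⟨mul_mem hβ.1 hγ.1, hmul β hβ.1 γ hγ.1 hβ.2 hγ.2⟩
      inv_mem' := fun {β} hβ => ⟨inv_mem hβ.1, hinv β hβ.1 hβ.2⟩ }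
  have hext : ∀ β ∈ F.autGroup Q, Extends F Q β → M Q (ex fun x => ((β x : Q) : Ω)) := by
    rintro β hβ ⟨R, hQR, hlt, ψ, hψ, h1⟩
    have h2 := h_res R Q _ (mp_ex hψ) (IH R _ (mp_ex hψ) hlt) hQR
    refine h_congr Q _ _ ((mp_ex hψ).res hQR) h2 fun x hx => ?_
    rw [ex_apply _ hx, ex_apply _ (hQR hx)]
    exact (h1 ⟨x, hx⟩).symm
  have hprime : ∀ β ∈ F.autGroup Q, Nat.Coprime (orderOf β) p → M Q (ex fun x => ((β x : Q) : Ω)) := by
    intro β hβ hc
    by_cases hcen : F.IsCentric Q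
    · exact (h_odd Q hQa hQr (hcen.2 Q (isConj_refl F hQS)) D (fun γ hγ he => ⟨hγ, hext γ hγ he⟩)
        (fun γ hγ hm => ⟨hγ, hm⟩) β hβ hc).2
    · obtain ⟨R, hQR, hcard, ψ, hψ, he⟩ := exists_extension_of_not_centric hQr hcen hβ
      exact hext β hβ ⟨R, hQR, hcard, ψ, hψ, fun x => he x x.2 _⟩
  have hres : ∀ β : F.autGroup Q, β ∈ pResidual p (F.autGroup Q) →
      M Q (ex fun x => (((β : MulAut Q) x : Q) : Ω)) := by
    intro β hβ
    refine Subgroup.closure_induction (p := fun (β : F.autGroup Q) _ =>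
      M Q (ex fun x => (((β : MulAut Q) x : Q) : Ω))) ?_ ?_ ?_ ?_ hβ
    · intro γ hγ
      have hγ' : Nat.Coprime (orderOf (γ : MulAut Q)) p := by
        rw [Subgroup.orderOf_coe]
        exact hγ
      exact hprime γ γ.2 hγ'
    · exact hone
    · intro β γ _ _ h1 h2
      exact hmul β β.2 γ γ.2 h1 h2
    · intro β _ h1
      exact hinv β β.2 h1
  obtain ⟨B, hB⟩ := hQa.2
  have hfA : Finite (F.autGroup Q) := inferInstance
  obtain ⟨r, hr, b, hb, hrb⟩ := exists_residual_mul B ⟨α, hα⟩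
  rw [hB, Subgroup.mem_subgroupOf, H802.mem_autInducedBy_iff] at hb
  obtain ⟨s, hs, hsb⟩ := hb
  have hMb : M Q (ex fun x => (((b : MulAut Q) x : Q) : Ω)) := by
    refine h_congr Q _ _ (mp_conj F hQS hs) (h_conj Q hQS s hs) fun x hx => ?_
    rw [ex_apply _ hx, hsb]
  have hM := hmul r r.2 b b.2 (hres r hr) hMb
  refine h_congr Q _ _ (hmp _ (mul_mem r.2 b.2)) hM fun x hx => ?_
  rw [ex_apply _ hx, hf x hx]
  have h1 : α = (r : MulAut Q) * b := congrArg Subtype.val hrb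
  rw [h1]

end Cfsg.Agent.H745.Q
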