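import Cfsg.Agent.H745.Q.Gen
import Cfsg.Agent.H757.Sf.Basic

set_option autoImplicit false
set_option linter.unusedSectionVars false
set_option linter.unusedVariables false

open Cfsg Cfsg.FusionSystem Cfsg.Agent.H752 Cfsg.Agent.H784.SF Cfsg.Agent.H784.Q Cfsg.Agent.H745.Q

universe u

namespace Cfsg.Agent.H745.Q

variable {Ω : Type u} [Group Ω] {S : Subgroup Ω} [Finite S] {F : FusionSystem S} {R : Subgroup Ω} {a b z r : Ω} {m : ℕ}

/-- generation (section 3): = `Sit.generation` of the plan. -/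
theorem sit_generation (h : Sit F R a b z r m) (S₁ : Subgroup Ω) (h₁ : S₁ ≤ S) (hn : ∀ s ∈ S, ∀ x ∈ S₁, s * x * s⁻¹ ∈ S₁)
    (hab : ∀ s ∈ S, ∀ s' ∈ S, s * s' * s⁻¹ * s'⁻¹ ∈ S₁)
    (hc : ∀ (P : Subgroup Ω) (f : Ω → Ω), Mp F P f → z ∈ P → f z = z → ∀ x ∈ P, x⁻¹ * f x ∈ S₁)
    (hT : ∀ t, CE F z t → t ≠ z → ∃ f : Ω → Ω, Mp F (CS S t) f ∧ f t = z ∧ ∀ x ∈ CS S t, x⁻¹ * f x ∈ S₁) : S₁ = S := by
  have main : ∀ (P : Subgroup Ω) (f : Ω → Ω), Mp F P f → ∀ x ∈ P, x⁻¹ * f x ∈ S₁ := by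
    refine gen_odd F h.hS h.sat (fun P f => ∀ x ∈ P, x⁻¹ * f x ∈ S₁) ?_ ?_ ?_ ?_ ?_ ?_
    · intro P f g _ h1 h2 x hx
      rw [h2 x hx]; exact h1 x hx
    · intro P Q f _ h1 h2 x hx
      exact h1 x (h2 hx)
    · intro P Q f g _ _ h1 h2 h3 x hx
      have h4 := mul_mem (h1 x hx) (h2 _ (h3 x hx))
      have e : x⁻¹ * g (f x) = x⁻¹ * f x * ((f x)⁻¹ * g (f x)) := by group
      rw [e]; exact h4
    · intro P Q f g _ h1 _ h2 y hy
      obtain ⟨x, hx, h3, h4⟩ := h2 y hy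
      rw [h4, ← h3]
      have h5 := S₁.inv_mem (h1 x hx)
      have e : (f x)⁻¹ * x = (x⁻¹ * f x)⁻¹ := by group
      rw [e]; exact h5
    · intro P hP s hs x hx
      have h1 := hab x⁻¹ (S.inv_mem (hP hx)) s hs
      have e : x⁻¹ * (s * x * s⁻¹) = x⁻¹ * s * x⁻¹⁻¹ * s⁻¹ := by group
      rw [e]; exact h1
    · intro Q hQa hQr hcen D hD1 hD2 α hα _
      have hQS : Q ≤ S := hQr.1
      refine hD2 α hα fun x hx => ?_
      have hmp := (mp_iff_autGroup hQS α).1 hα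
      have hzQ : z ∈ Q := hcen (mem_centK.mpr ⟨h.zS, fun x hx => (h.z_centr x (hQS hx)).symm⟩)
      set g := ex fun x => ((α x : Q) : Ω) with hg
      have hmaps : ∀ x ∈ Q, g x ∈ Q := fun x hx => by rw [hg, ex_apply _ hx]; exact (α _).2
      by_cases hgz : g z = z
      · exact hc Q g hmp hzQ hgz x hx
      · obtain ⟨f, hf, hfz, hf1⟩ := hT (g z) ⟨g, hmp.res (by rw [Subgroup.zpowers_le]; exact hzQ), rfl⟩ hgz
        have hle : ∀ x ∈ Q, g x ∈ CS S (g z) := by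
          intro x hx
          refine mem_cent.mpr ⟨hQS (hmaps x hx), ?_⟩
          rw [← hmp.mul hx hzQ, ← hmp.mul hzQ hx, h.z_centr x (hQS hx)]
        have h1 := hc Q (fun x => f (g x)) (hmp.comp hf hle) hzQ hfz x hx
        have h2 := hf1 _ (hle x hx)
        have h3 := mul_mem h1 (S₁.inv_mem h2)
        have e : x⁻¹ * f (g x) * ((g x)⁻¹ * f (g x))⁻¹ = x⁻¹ * g x := by group
        rwa [e] at h3
  refine le_antisymm h₁ ?_
  conv_lhs => rw [← h.foc]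
  unfold FusionSystem.focalSubgroup
  rw [Subgroup.closure_le]
  rintro y ⟨P, φ, x, hφ, rfl⟩
  have h1 := main P (ex φ) (mp_ex hφ) x x.2
  rwa [ex_coe] at h1

end Cfsg.Agent.H745.Q
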